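import Cfsg.Agent.SM.Tx.Lie
import Cfsg.Agent.TH.Ex.Dg.Spor
import Cfsg.Agent.H977.T5SporA
import Cfsg.Agent.H149.Sp.Base
import Cfsg.Agent.H889.Enum.Glue
import Cfsg.Agent.H54.Kill.B

/-!
# SM (S3570), box CS-X: sporadic socles, orders and degrees (helper85)
-/

set_option autoImplicit false

namespace Cfsg.Agent.SM.Tx

open Cfsg Cfsg.Geo Cfsg.Agent.OrdDiv Cfsg.Agent.H290.ElReg Cfsg.Agent.TH.Ex.Dg
open Cfsg.Agent.SM.Ti Cfsg.Agent.TH.Sv Cfsg.Agent.TH.Sim Cfsg.Agent.TH.Sim.Al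

/-- the pairs which are treated separately -/
def exS (g : Grp) (Q m : ℕ) : Prop :=
  Q = 2 ∧ (g = .b ∧ m ≤ 12 ∨ m = 12 ∧ (g = .ru ∨ g = .th ∨ g = .co1)) ∨ g = .m ∧ Q = 3 ∧ m ≤ 8

instance decExS (g : Grp) (Q m : ℕ) : Decidable (exS g Q m) := by unfold exS; infer_instance

/-- the dimension `d` is excluded -/
def dimS (g : Grp) (Q d : ℕ) : Bool :=
  Nat.blt d 13 || (!dv 2 d && dv 2 Q) ||
    (Nat.beq (Nat.gcd d (Q - 1)) 1 && !allL [2, 3, 5] fun p => !(dv p Q && Nat.blt d (dgS g p)))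

theorem run_S : (spor.all fun x => allQm (2 * x.2) 6 fun Q m =>
    (dimS x.1 Q (2 * m) && dimS x.1 Q (2 * m + 1)) || decide (exS x.1 Q m)) = true := by decide +kernel

variable {n : ℕ} {K : Type} [Field K] [Fintype K] {m : ℕ} {P : Subgroup (GL (Fin n) K)}

/-- no scalars -/
theorem exists_rep (hP : ⁅P, P⁆ = P) (hc : Nat.gcd n (Fintype.card K - 1) = 1) :
    ∃ ρ : H915.LD.Soc P →* GL (Fin n) K, Function.Injective ρ ∧ ∀ x : P, ρ (QuotientGroup.mk x) = x := by
  have h1 : (scalars (Fin n) K).subgroupOf P ≤ P.subtype.ker := by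
    intro x hx
    obtain ⟨c, hc'⟩ := (mem_scalars_iff _).1 hx
    have h2 : (x : GL (Fin n) K) ∈ (Matrix.GeneralLinearGroup.det (n := Fin n) (R := K)).ker :=
      Abelianization.commutator_subset_ker _ (Subgroup.commutator_mono le_top le_top (hP.ge x.2))
    have h3 : (c : K) ^ n = 1 := by
      have h4 : Matrix.det ((x : GL (Fin n) K) : Matrix (Fin n) (Fin n) K) = 1 := congrArg Units.val h2
      have h5 : ((x : GL (Fin n) K) : Matrix (Fin n) (Fin n) K) = (c : K) • 1 := hc'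
      rwa [h5, Matrix.det_smul, Matrix.det_one, mul_one, Fintype.card_fin] at h4
    have h4 := Nat.dvd_gcd (orderOf_dvd_of_pow_eq_one h3)
      (orderOf_dvd_of_pow_eq_one (FiniteField.pow_card_sub_one_eq_one _ c.ne_zero))
    rw [hc, Nat.dvd_one, orderOf_eq_one_iff] at h4
    exact Units.ext (hc'.trans (by rw [h4, one_smul]; rfl))
  refine ⟨QuotientGroup.lift _ P.subtype h1, (injective_iff_map_eq_one _).2 fun x hx => ?_, fun _ => rfl⟩
  induction x using QuotientGroup.induction_on with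
  | H x => rw [show x = 1 from Subtype.ext hx, QuotientGroup.mk_one]

theorem Dt.fth (h : Dt m P) (hc : Nat.gcd n (Fintype.card K - 1) = 1) : Fth n K (H915.LD.Soc P) :=
  (exists_rep h.core.perfect hc).imp fun _ h => h.1

theorem char_of_dvd {p : ℕ} (hp : p.Prime) (h : p ∣ Fintype.card K) : CharP K p := by
  obtain ⟨s, hs⟩ := CharP.exists K
  obtain ⟨a, hs', ha⟩ := FiniteField.card K s
  rw [ha] at h
  rwa [(Nat.prime_dvd_prime_iff_eq hp hs').1 (hp.dvd_of_dvd_pow h)]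

theorem ne_zero_of {p r : ℕ} (hp : p.Prime) (h : p ∣ Fintype.card K) (hr : ¬ p ∣ r) : (r : K) ≠ 0 :=
  have := char_of_dvd hp h
  fun e => hr ((CharP.cast_eq_zero_iff K p r).1 e)

theorem out_dvd {S : Type} [Group S] [Finite S] (h : IsSporadicGroup S ∨ Lie.IsoTits S) : Nat.card (Out S) ∣ 2 :=
  h.elim H149.Sp.card_out_dvd_two H889.Enum.out_tits

/-- **The sporadic socles which are left.** -/
theorem Dt.spor (h : Dt m P) (hS : IsSporadicGroup (H915.LD.Soc P) ∨ Lie.IsoTits (H915.LD.Soc P)) :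
    Fintype.card K = 2 ∧ m = 12 ∧ (Spor.IsoTh (H915.LD.Soc P) ∨ Spor.IsoCo1 (H915.LD.Soc P)) := by
  have := h.core.simple
  obtain ⟨x, hx, hr⟩ := H977.T5Spor.exists_real hS
  have h1 := table_spor _ x hx hr
  have h2 : Nat.card (MulAut (H915.LD.Soc P)) ∣ 2 * x.2 := by
    rw [← H934.OutB.card_out_mul _ h.core.nonabelian, h1]
    exact Nat.mul_dvd_mul_right (out_dvd hS) _
  have h3 := allQm_sound (List.all_eq_true.1 run_S x hx) (by rw [← h1]; exact Nat.mul_pos two_pos Nat.card_pos)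
    Fintype.one_lt_card (by omega) h.six (h.dvd.trans h2)
  have h4 : dimS x.1 (Fintype.card K) n = false := by
    rw [← Bool.not_eq_true]
    simp only [dimS, Bool.or_eq_true, Bool.and_eq_true, Nat.blt_eq, Nat.beq_eq, Bool.not_eq_true', ← Bool.not_eq_true,
      dv_iff, allL_iff]
    rintro ((h5 | ⟨h5, h6⟩) | ⟨h5, h6⟩)
    · exact absurd h.big (by omega)
    · exact h5 ⟨m, (h.even h6).1⟩
    · refine h6 fun p hp h7 => ?_
      have := char_of_dvd (K := K) ((by decide : ∀ p ∈ [2, 3, 5], p.Prime) p hp) h7.1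
      exact absurd (dgS_le (p := p) h.hna hr (h.fth h5)) (by omega)
  have h5 : exS x.1 (Fintype.card K) m := by
    rw [Bool.or_eq_true, Bool.and_eq_true, decide_eq_true_eq] at h3
    refine h3.resolve_left fun h5 => ?_
    rcases h.dim with h6 | ⟨h6, -⟩ <;> rw [h6] at h4
    · exact Bool.false_ne_true (h4.symm.trans h5.1)
    · exact Bool.false_ne_true (h4.symm.trans h5.2)
  obtain ⟨g, t⟩ := x
  have h6 := h.hi
  rcases h5 with ⟨hq, ⟨rfl, h5⟩ | ⟨h5, rfl | rfl | rfl⟩⟩ | ⟨rfl, hq, h5⟩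
  · obtain ⟨e⟩ := hr
    obtain ⟨f, hf⟩ := H54.Kill.B.exists_hom
    have h7 : Lo 3 26 Spor.Fi23 := Lo.of_ls (H433.EP.not_comm_of_card H433.EP.card23 (by norm_num))
      H433.EP.ls23
    have := ((h7.sub f hf).congr e) K (ne_zero_of Nat.prime_two hq.symm.dvd (by decide)) n (h.fth (by rw [hq]; simp))
    omega
  · obtain ⟨ρ, hρ⟩ := h.fth (by rw [hq]; simp)
    have h7 := Subgroup.card_dvd_of_injective ρ hρ
    have h8 := (h.even hq.symm.dvd).1
    subst h5 h8
    rw [table_spor _ (.ru, 145926144000) (by decide) hr, Matrix.card_GL_field, hq] at h7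
    exact absurd h7 (by decide +kernel)
  · exact ⟨hq, h5, Or.inl hr⟩
  · exact ⟨hq, h5, Or.inr hr⟩
  · obtain ⟨e⟩ := hr
    have := e.symm.toEquiv.nontrivial
    have := H912.Bd.le_of_ls H444.EP.Mon.ls_two (ne_zero_of Nat.prime_three hq.symm.dvd (by decide)) P h.core.perfect e
    omega

end Cfsg.Agent.SM.Tx
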