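import Cfsg.Agent.SM.Ti.Box
import Cfsg.Agent.TH.Sim.AltChk
import Cfsg.Agent.H588.ZsigPart

/-!
# SM (S3570), box CS-X: numbers (helper85)

* `allQm A m0 flt` : `flt Q m` for all `Q ≥ 2`, `m ≥ m0` with `Q ^ (m - 1) th Q m ∣ A`;
* `fac_cases` : the solutions of `Q ^ (m - 1) th Q m ∣ (2 m + 3)!`.
-/

set_option autoImplicit false

namespace Cfsg.Agent.SM.Tx

open Cfsg.Agent.SM.Ti Cfsg.Agent.TH.Sv Cfsg.Agent.TH.Sim Cfsg.Agent.TH.Sim.Al

/-- `th` by division -/
def thf (Q m : ℕ) : ℕ := (Q ^ m - 1) / (Q - 1)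

theorem thf_eq {Q : ℕ} (hQ : 2 ≤ Q) (m : ℕ) : thf Q m = th Q m := by
  rw [thf, ← th_mul' (by omega) m, Nat.mul_div_cancel _ (by omega)]

theorem pow_le_th (Q : ℕ) {m : ℕ} (hm : 1 ≤ m) : Q ^ (m - 1) ≤ th Q m := by
  obtain ⟨a, rfl⟩ : ∃ a, m = a + 1 := ⟨m - 1, by omega⟩
  rw [th_succ, Nat.add_sub_cancel]
  omega

theorem pow_le_of {Q m A : ℕ} (hA : 0 < A) (hm : 1 ≤ m) (h : Q ^ (m - 1) * th Q m ∣ A) : Q ^ (2 * m - 2) ≤ A := by
  refine le_trans ?_ (Nat.le_of_dvd hA h)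
  rw [show 2 * m - 2 = (m - 1) + (m - 1) by omega, pow_add]
  exact Nat.mul_le_mul_left _ (pow_le_th Q hm)

/-- `flt Q m` for all `Q ≥ 2`, `m ≥ m0` with `Q ^ (m - 1) th Q m ∣ A` -/
def allQm (A m0 : ℕ) (flt : ℕ → ℕ → Bool) : Bool :=
  Nat.blt (Nat.log2 A) (2 * m0 - 2) ||
    allU (fun Q => Nat.blt A (Q ^ (2 * m0 - 2))) (fun Q => !dv (Q ^ (m0 - 1)) A ||
      allU (fun m => Nat.blt A (Q ^ (2 * m - 2))) (fun m => !dv (Q ^ (m - 1) * thf Q m) A || flt Q m) 1000 m0) 1000000 2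

theorem allQm_sound {A m0 : ℕ} {flt : ℕ → ℕ → Bool} (h : allQm A m0 flt = true) (hA : 0 < A) {Q m : ℕ} (hQ : 2 ≤ Q)
    (h0 : 1 ≤ m0) (hm : m0 ≤ m) (hd : Q ^ (m - 1) * th Q m ∣ A) : flt Q m = true := by
  have h1 := pow_le_of hA (h0.trans hm) hd
  have h2 : ∀ a b : ℕ, a ≤ Q → b ≤ m → Nat.blt A (a ^ (2 * b - 2)) = false := fun a b ha hb => by
    rw [← Bool.not_eq_true, Nat.blt_eq, not_lt]
    exact ((Nat.pow_le_pow_left ha _).trans (Nat.pow_le_pow_right (by omega) (by omega))).trans h1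
  rw [allQm, Bool.or_eq_true, Nat.blt_eq] at h
  rcases h with h | h
  · have h3 := h2 2 m0 hQ hm
    rw [← Bool.not_eq_true, Nat.blt_eq, not_lt, ← Nat.le_log2 hA.ne'] at h3
    omega
  have h3 := allU_sound h hQ fun j hj => h2 j m0 hj hm
  rw [dv_iff.2 (((pow_dvd_pow Q (by omega)).trans (Dvd.intro _ rfl)).trans hd), Bool.not_true, Bool.false_or] at h3
  have h4 := allU_sound h3 hm fun j hj => h2 Q j le_rfl hj
  rwa [thf_eq hQ, dv_iff.2 hd, Bool.not_true, Bool.false_or] at h4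

/-! ### the factorial -/

theorem q_le {p a m : ℕ} (hp : p.Prime) (hm : 6 ≤ m) (h : (p ^ a) ^ (m - 1) ∣ (2 * m + 3).factorial) : p ^ a ≤ 4 := by
  have := Fact.mk hp
  rw [← pow_mul, padicValNat_dvd_iff_le (Nat.factorial_ne_zero _)] at h
  have h1 := sub_one_mul_padicValNat_factorial (p := p) (2 * m + 3)
  have h2 : (p - 1) * (a * (m - 1)) ≤ 2 * m + 3 := (Nat.mul_le_mul_left _ h).trans (h1.le.trans (Nat.sub_le _ _))
  have h3 : (p - 1) * a ≤ 2 ∨ ((p - 1) * a = 3 ∧ m = 6) := by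
    rw [← mul_assoc] at h2
    generalize (p - 1) * a = x at h2
    by_contra h4
    have h5 : 3 * (m - 1) ≤ x * (m - 1) := Nat.mul_le_mul_right _ (by omega)
    obtain rfl : m = 6 := by omega
    omega
  have h4 := hp.two_le
  rcases h3 with h3 | ⟨h3, rfl⟩
  · rcases Nat.eq_zero_or_pos a with rfl | ha
    · simp
    have h5 : (p - 1) * 1 ≤ (p - 1) * a := Nat.mul_le_mul_left _ ha
    have h6 : 1 * a ≤ (p - 1) * a := Nat.mul_le_mul_right _ (by omega)
    have h7 : p ≤ 3 := by omega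
    have h8 : a ≤ 2 := by omega
    interval_cases p <;> interval_cases a <;> omega
  · have h5 : p - 1 ∣ 3 := ⟨a, h3.symm⟩
    have h6 : p ≤ 4 := by have := Nat.le_of_dvd three_pos h5; omega
    interval_cases p
    · obtain rfl : a = 3 := by omega
      rw [← padicValNat_dvd_iff_le (Nat.factorial_ne_zero _)] at h
      exact absurd h (by decide)
    · omega
    · exact absurd hp (by decide)

theorem prim_dvd {Q m x : ℕ} (hQ : 2 ≤ Q) (hm : 4 ≤ m) (hx : H588.ZsigPart.Prim Q m x)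
    (h : x ∣ (2 * m + 3).factorial) : x ∣ (m + 1) * (2 * m + 1) * (2 * m + 2) := by
  have key : ∀ i, 1 ≤ i → i ≤ 2 * m + 3 → i ≠ m + 1 → i ≠ 2 * m + 1 → i ≠ 2 * m + 2 → x.Coprime i := by
    intro i h1 h2 h3 h4 h5
    by_contra hc
    obtain ⟨r, hr, hrx, c, rfl⟩ := Nat.Prime.not_coprime_iff_dvd.1 hc
    have := Fact.mk hr
    have e : ∀ j, r ∣ Q ^ j - 1 ↔ orderOf (Q : ZMod r) ∣ j := fun j => by
      rw [orderOf_dvd_iff_pow_eq_one, ← ZMod.natCast_eq_zero_iff, Nat.cast_sub (Nat.one_le_pow _ _ (by omega)),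
        Nat.cast_one, sub_eq_zero, Nat.cast_pow]
    have h6 := (e m).1 (hrx.trans hx.1)
    have h7 : orderOf (Q : ZMod r) = m := by
      by_contra h8
      exact hr.one_lt.ne' (Nat.eq_one_of_dvd_coprimes (hx.2 _ (Nat.pos_of_dvd_of_pos h6 (by omega))
        (lt_of_le_of_ne (Nat.le_of_dvd (by omega) h6) h8)) hrx ((e _).2 dvd_rfl))
    have h8 : (Q : ZMod r) ≠ 0 := fun h9 => by
      have h10 := pow_orderOf_eq_one (Q : ZMod r)
      rw [h7, h9, zero_pow (by omega)] at h10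
      exact zero_ne_one h10
    obtain ⟨d, hd⟩ : m ∣ r - 1 := h7 ▸ orderOf_dvd_of_pow_eq_one (ZMod.pow_card_sub_one_eq_one h8)
    have h9 := hr.two_le
    have hc0 : c ≠ 0 := by rintro rfl; omega
    have hd0 : d ≠ 0 := by rintro rfl; omega
    have h10 : r * 1 ≤ r * c := Nat.mul_le_mul_left _ (by omega)
    have hd3 : d < 3 := by
      by_contra h11
      have : m * 3 ≤ m * d := Nat.mul_le_mul_left _ (by omega)
      omega
    have hc3 : c < 3 := by
      by_contra h11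
      have : r * 3 ≤ r * c := Nat.mul_le_mul_left _ (by omega)
      have : m * 1 ≤ m * d := Nat.mul_le_mul_left _ (by omega)
      omega
    interval_cases d <;> interval_cases c <;> omega
  have h1 : ∀ i, i ≤ m → x.Coprime i.factorial := fun i hi => by
    induction i with
    | zero => simp
    | succ i ih => exact (key _ (by omega) (by omega) (by omega) (by omega) (by omega)).mul_right (ih (by omega))
  have h2 : ∀ i y, i < m → x ∣ y * (m + 1 + i).factorial → x ∣ y * (m + 1) := fun i y hi => by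
    induction i with
    | zero =>
      intro h3
      rw [add_zero, Nat.factorial_succ, ← mul_assoc] at h3
      exact (h1 m le_rfl).dvd_of_dvd_mul_right h3
    | succ i ih =>
      intro h3
      rw [← add_assoc, Nat.factorial_succ, mul_left_comm] at h3
      exact ih (by omega) ((key _ (by omega) (by omega) (by omega) (by omega) (by omega)).dvd_of_dvd_mul_left h3)
  rw [Nat.factorial_succ] at h
  have h3 := (key _ (by omega) (by omega) (by omega) (by omega) (by omega)).dvd_of_dvd_mul_left h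
  rw [Nat.factorial_succ, Nat.factorial_succ, ← mul_assoc, show (2 * m).factorial = (m + 1 + (m - 1)).factorial by
    congr 1; omega] at h3
  exact (h2 _ _ (by omega) h3).trans (by rw [mul_comm, mul_comm (2 * m + 1 + 1), mul_assoc])

theorem pow_big {E : ℕ} (hE : 49 ≤ E) : 4 * (10 * E ^ 2 + 9) ^ 4 < 9 ^ 4 * 2 ^ E := by
  induction E, hE using Nat.le_induction with
  | base => norm_num
  | succ E hE ih =>
    have h1 : 10 * (10 * (E + 1) ^ 2 + 9) ≤ 11 * (10 * E ^ 2 + 9) := by nlinarith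
    have h2 := Nat.pow_le_pow_left h1 4
    rw [mul_pow, mul_pow] at h2
    rw [pow_succ 2]
    omega

open H365.Zsig in
theorem exists_E {Q m P : ℕ} (hQ : 2 ≤ Q) (hP : P.Prime) (hPm : P ∣ m)
    (hmax : ∀ s : ℕ, s.Prime → s ∣ m → s ≤ P) : m ≤ 2560 ∨ ∃ E, 2 ^ E ≤ Ph m Q ∧ 9 * m ≤ 10 * E ^ 2 := by
  by_cases h0 : m ≤ 2560
  · exact Or.inl h0
  refine Or.inr ?_
  obtain ⟨k, x, hx, hk⟩ := Nat.exists_eq_pow_mul_and_not_dvd (n := m) (by omega) P hP.ne_one
  have hx0 : x ≠ 0 := by rintro rfl; simp at hx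
  obtain ⟨j, rfl⟩ : ∃ j, k = j + 1 := by
    refine Nat.exists_eq_succ_of_ne_zero ?_
    rintro rfl
    rw [pow_zero, one_mul] at hk
    exact hx (hk ▸ hPm)
  have h1 : ∀ s : ℕ, s.Prime → s ∣ x → s < P := fun s hs h =>
    lt_of_le_of_ne (hmax s hs (h.trans (Dvd.intro_left _ hk.symm))) fun e => hx (e ▸ h)
  have h2 := hP.two_le
  have hj : 1 ≤ P ^ j := Nat.one_le_pow _ _ hP.pos
  rcases Nat.lt_or_ge P 3 with h3 | h3
  · obtain rfl : P = 2 := by omega
    obtain rfl : x = 1 := by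
      by_contra hne
      obtain ⟨s, hs, hsm⟩ := Nat.exists_prime_and_dvd hne
      have := h1 s hs hsm
      have := hs.two_le
      omega
    rw [mul_one] at hk
    refine ⟨2 ^ j, ?_, ?_⟩
    · rw [hk, Ph_two hQ]
      exact (Nat.pow_le_pow_left hQ _).trans (Nat.le_succ _)
    · rw [pow_succ] at hk
      nlinarith
  refine ⟨P ^ j * ((P - 2) * x.totient), ?_, ?_⟩
  · rw [hk]
    exact (Nat.pow_le_pow_left hQ _).trans (Ph_ge hQ hP h3 hx)
  rcases Nat.lt_or_ge P 5 with h4 | h4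
  · obtain rfl : P = 3 := by
      have : P ≠ 4 := by rintro rfl; exact absurd hP (by decide)
      omega
    have h5 : x ≤ 2 * x.totient := by
      have h6 : x = 2 ^ x.primeFactorsList.length := Nat.eq_prime_pow_of_unique_prime_dvd hx0 fun {s} hs hsm => by
        have := h1 s hs hsm
        have := hs.two_le
        omega
      generalize x.primeFactorsList.length = a at h6
      subst h6
      rcases a with _ | a
      · simp
      · rw [Nat.totient_prime_pow_succ Nat.prime_two, pow_succ]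
        omega
    have h6 : m ≤ 6 * (3 ^ j * ((3 - 2) * x.totient)) := by
      rw [hk, pow_succ]
      nlinarith
    nlinarith
  · have h5 := le_two_mul_totient_sq (Nat.pos_of_ne_zero hx0)
    obtain ⟨y, rfl⟩ : ∃ y, P = y + 2 := ⟨P - 2, by omega⟩
    rw [hk, Nat.add_sub_cancel, pow_succ]
    generalize (y + 2) ^ j = z at *
    generalize x.totient = t at *
    calc 9 * (z * (y + 2) * x) ≤ 9 * (z * (y + 2) * (2 * t ^ 2)) := by gcongr
      _ = (18 * (y + 2)) * z * t ^ 2 := by ring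
      _ ≤ (10 * y ^ 2) * z ^ 2 * t ^ 2 :=
        Nat.mul_le_mul_right _ (Nat.mul_le_mul (by nlinarith) (Nat.le_self_pow two_ne_zero z))
      _ = _ := by ring

theorem m_le {Q m : ℕ} (hQ : 2 ≤ Q) (hm : 6 ≤ m) (h : th Q m ∣ (2 * m + 3).factorial) : m ≤ 2560 := by
  have hne : m.primeFactors.Nonempty := Nat.nonempty_primeFactors.2 (by omega)
  have hmem := Finset.max'_mem _ hne
  have hP := Nat.prime_of_mem_primeFactors hmem
  have hPm := Nat.dvd_of_mem_primeFactors hmem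
  have hmax : ∀ s : ℕ, s.Prime → s ∣ m → s ≤ m.primeFactors.max' hne := fun s hs hsn =>
    Finset.le_max' _ _ (Nat.mem_primeFactors.2 ⟨hs, hsn, by omega⟩)
  generalize m.primeFactors.max' hne = P at hP hPm hmax
  rcases exists_E hQ hP hPm hmax with h1 | ⟨E, h1, h2⟩
  · exact h1
  obtain ⟨x, hx, h3⟩ := H588.ZsigPart.exists_prim hQ (by omega) hP hPm hmax
  have h4 : x ∣ th Q m := by
    have h5 := hx.1
    have h6 := hx.2 1 le_rfl (by omega)
    rw [pow_one] at h6
    rw [← th_mul' (by omega) m] at h5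
    exact h6.dvd_of_dvd_mul_right h5
  have h5 := Nat.le_of_dvd (by positivity) (prim_dvd hQ (by omega) hx (h4.trans h))
  have h6 : 2 ^ E ≤ 4 * (m + 1) ^ 4 :=
    calc 2 ^ E ≤ x * P := h1.trans h3
      _ ≤ (m + 1) * (2 * (m + 1)) * (2 * (m + 1)) * (m + 1) := by
        refine Nat.mul_le_mul (h5.trans ?_) ((Nat.le_of_dvd (by omega) hPm).trans (Nat.le_succ m))
        gcongr <;> omega
      _ = _ := by ring
  have h7 : E ≤ 48 := by
    by_contra h8
    have h9 := pow_big (E := E) (by omega)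
    have h10 : (9 * (m + 1)) ^ 4 ≤ (10 * E ^ 2 + 9) ^ 4 := Nat.pow_le_pow_left (by omega) 4
    rw [mul_pow] at h10
    omega
  have := Nat.pow_le_pow_left h7 2
  omega

/-- the exceptions -/
def exF (Q m : ℕ) : Bool :=
  Nat.beq m 6 || (Nat.beq Q 2 && (Nat.beq m 8 || Nat.beq m 12 || Nat.beq m 20))

/-- one step of the loop: `F = (2 m + 3)!` -/
def tstF (m F : ℕ) : Bool := allL [2, 3, 4] fun Q => !dv (Q ^ (m - 1) * thf Q m) F || exF Q m

/-- the loop -/
def runF (k : ℕ) : ℕ → ℕ → Bool :=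
  Nat.rec (motive := fun _ => ℕ → ℕ → Bool) (fun _ _ => true)
    (fun _ ih m F => tstF m F && frc (m + 1) fun m' => frc (F * ((2 * m + 4) * (2 * m + 5))) (ih m')) k

theorem runF_sound {k lo : ℕ} (h : runF k lo (2 * lo + 3).factorial = true) {m : ℕ} (h1 : lo ≤ m) (h2 : m < lo + k) :
    tstF m (2 * m + 3).factorial = true := by
  induction k generalizing lo with
  | zero => omega
  | succ k ih =>
    have h3 : (tstF lo (2 * lo + 3).factorial && frc (lo + 1) fun m' =>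
      frc ((2 * lo + 3).factorial * ((2 * lo + 4) * (2 * lo + 5))) (runF k m')) = true := h
    rw [Bool.and_eq_true, frc_eq, frc_eq] at h3
    rcases h1.eq_or_lt with rfl | h4
    · exact h3.1
    refine ih (lo := lo + 1) ?_ h4 (by omega)
    rw [show 2 * (lo + 1) + 3 = 2 * lo + 3 + 1 + 1 by ring, Nat.factorial_succ, Nat.factorial_succ, ← h3.2]
    congr 1
    ring

theorem runF_true : runF 2555 6 1307674368000 = true := by decide +kernel

/-- **The solutions.** -/
theorem fac_cases {p a m : ℕ} (hp : p.Prime) (hQ : 2 ≤ p ^ a) (hm : 6 ≤ m)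
    (h : (p ^ a) ^ (m - 1) * th (p ^ a) m ∣ (2 * m + 3).factorial) :
    (m = 6 ∧ p ^ a ≤ 4) ∨ (p ^ a = 2 ∧ (m = 8 ∨ m = 12 ∨ m = 20)) := by
  have h1 := q_le hp hm ((Dvd.intro _ rfl).trans h)
  have h2 := m_le hQ hm ((Dvd.intro_left _ rfl).trans h)
  have h3 := (allL_iff _ _).1 (runF_sound (lo := 6) runF_true hm (by omega)) (p ^ a) (by simp; omega)
  rw [thf_eq hQ, dv_iff.2 h, Bool.not_true, Bool.false_or] at h3
  simp only [exF, Bool.or_eq_true, Bool.and_eq_true, Nat.beq_eq] at h3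
  omega

end Cfsg.Agent.SM.Tx
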