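import Cfsg.Agent.SM.Tx.Dat
import Cfsg.Agent.SM.Tx.Num
import Cfsg.Agent.TH.Sim.Alt
import Cfsg.Agent.S2653

/-!
# SM (S3570), box CS-X: alternating socles (helper85)

* `poss f c e` : a test which holds for the index `e` of a subgroup of `A_c`;
* `Dt.alt` : the pairs `(|K|, m)` which are left;
* `not_ix_alt` : they do not occur.
-/

set_option autoImplicit false

namespace Cfsg.Agent.SM.Tx

open Cfsg Equiv Cfsg.Agent.SM.Ti Cfsg.Agent.TH.Sv Cfsg.Agent.TH.Sim Cfsg.Agent.TH.Sim.Al Cfsg.Agent.TH.Alt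

/-- the index of a subgroup of `A_c` -/
def poss (f : ℕ) : ℕ → ℕ → Bool :=
  Nat.rec (motive := fun _ => ℕ → ℕ → Bool) (fun _ _ => true)
    (fun _ ih c e => Nat.beq e 1 || (Nat.blt c 5 || (dv e (fac c / 2) && (trn c e ||
      !allR (fun k => frc (cho c k) fun C => !(dv C e && frc (Nat.gcd (fac k) (e / C)) fun g =>
        !allR (fun j => !(dv j g && frc (c - k) fun c' => frc (e / C / j) (ih c'))) g 1)) (c / 2) 1)))) f

section

variable {α : Type} [Fintype α] [DecidableEq α]

theorem card_alt' (h : 2 ≤ Fintype.card α) : 2 * Nat.card (alternatingGroup α) = (Fintype.card α).factorial := by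
  have : Nontrivial α := Fintype.one_lt_card_iff_nontrivial.1 h
  rw [Nat.card_eq_fintype_card, two_mul_card_alternatingGroup, Fintype.card_perm]

theorem exists_sub (hc : 5 ≤ Fintype.card α) {U : Subgroup (alternatingGroup α)} {O : Finset α}
    (h2 : 2 * O.card ≤ Fintype.card α) (h3 : U ≤ (SW O).subgroupOf _) :
    ∃ j, j ∣ O.card.factorial ∧ U.index = (Fintype.card α).choose O.card * (j *
      (U.comap (alternatingGroup.ofSubtype Oᶜ)).index) := by
  have h4 := index_SW (Γ := alternatingGroup α) le_rfl (by omega) O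
  have h5 : (alternatingGroup.ofSubtype Oᶜ).range ≤ (SW O).subgroupOf _ := fun x hx a => by
    have h6 := (alternatingGroup.mem_range_ofSubtype_iff _ _).1 hx
    by_cases h7 : a ∈ (x : Perm α).support
    · exact iff_of_false (Finset.mem_compl.1 (h6 (Perm.apply_mem_support.2 h7))) (Finset.mem_compl.1 (h6 h7))
    · show (x : Perm α) a ∈ O ↔ _
      rw [Perm.notMem_support.1 h7]
  have h6 : ((alternatingGroup.ofSubtype Oᶜ).range.subgroupOf ((SW O).subgroupOf (alternatingGroup α))).Normal := by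
    refine ⟨fun x hx w => (alternatingGroup.mem_range_ofSubtype_iff _ _).2 fun a ha => ?_⟩
    have h7 := (alternatingGroup.mem_range_ofSubtype_iff _ _).1 hx
    have h8 : a ∈ ((w.1 : Perm α) * (x.1 : Perm α) * (w.1 : Perm α)⁻¹).support := ha
    rw [Perm.support_conj, Finset.mem_map] at h8
    obtain ⟨b, hb, rfl⟩ := h8
    exact Finset.mem_compl.2 fun h9 => Finset.mem_compl.1 (h7 hb) ((w.2 b).1 h9)
  obtain ⟨j, h7, h8⟩ := idx_rel U h5 h6
  refine ⟨j, h7.trans (dvd_of_eq ?_), by rw [Subgroup.index_comap, ← h8, ← h4, mul_comm, Subgroup.relIndex_mul_index h3]⟩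
  have h9 := Subgroup.relIndex_mul_index h5
  have h10 := (alternatingGroup.ofSubtype Oᶜ).range.index_mul_card
  have h11 : Fintype.card (Oᶜ : Finset α) = Fintype.card α - O.card := by rw [Fintype.card_coe, Finset.card_compl]
  have h12 := card_alt' (α := (Oᶜ : Finset α)) (by omega)
  have h13 := card_alt' (α := α) (by omega)
  rw [Nat.card_congr (MonoidHom.ofInjective alternatingGroup.ofSubtype_injective).toEquiv, h11] at h12
  rw [← h10, ← h9, h4, ← Nat.choose_mul_factorial_mul_factorial O.card_le_univ, ← h12] at h13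
  have h14 : 0 < (Fintype.card α).choose O.card * (2 * Nat.card (alternatingGroup.ofSubtype Oᶜ).range) :=
    Nat.mul_pos (Nat.choose_pos O.card_le_univ) (Nat.mul_pos two_pos Nat.card_pos)
  refine Nat.eq_of_mul_eq_mul_left h14 ?_
  linarith

end

theorem poss_sound (f : ℕ) : ∀ (α : Type) [Fintype α] [DecidableEq α] (U : Subgroup (alternatingGroup α)),
    poss f (Fintype.card α) U.index = true := by
  induction f with
  | zero => exact fun _ _ _ _ => rfl
  | succ f ih =>
    intro α _ _ U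
    show (Nat.beq U.index 1 || (Nat.blt (Fintype.card α) 5 || (dv U.index (fac (Fintype.card α) / 2) &&
      (trn (Fintype.card α) U.index || !allR (fun k => frc (cho (Fintype.card α) k) fun C => !(dv C U.index &&
        frc (Nat.gcd (fac k) (U.index / C)) fun g => !allR (fun j => !(dv j g &&
          frc (Fintype.card α - k) fun c' => frc (U.index / C / j) (poss f c'))) g 1)) (Fintype.card α / 2) 1)))) = true
    by_cases hU : U = ⊤
    · rw [hU, Subgroup.index_top, Nat.beq_refl, Bool.true_or]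
    by_cases hc : Fintype.card α < 5
    · rw [Nat.blt_eq.mpr hc, Bool.true_or, Bool.or_true]
    have h0 : fac (Fintype.card α) / 2 = Nat.card (alternatingGroup α) := by
      rw [fac_eq, ← card_alt' (by omega), Nat.mul_div_cancel_left _ two_pos]
    rw [h0, dv_iff.2 U.index_dvd_card, Bool.true_and, Bool.or_eq_true, Bool.or_eq_true, Bool.or_eq_true]
    refine Or.inr (Or.inr ?_)
    have hi : 0 < U.index := Nat.pos_of_ne_zero Subgroup.index_ne_zero_of_finite
    rcases tri (by omega) hU with ⟨O, h1, h2, h3⟩ | ⟨h1, h2⟩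
    · obtain ⟨j, h4, h5⟩ := exists_sub (by omega) h2 h3
      have h6 := ih _ (U.comap (alternatingGroup.ofSubtype Oᶜ))
      rw [Fintype.card_coe, Finset.card_compl] at h6
      refine Or.inr (not_allR h1 (by omega) ?_)
      have h7 : 0 < (Fintype.card α).choose O.card := Nat.choose_pos O.card_le_univ
      have h8 : 0 < j := Nat.pos_of_dvd_of_pos h4 (Nat.factorial_pos _)
      have h9 : j ∣ Nat.gcd O.card.factorial (j * (U.comap (alternatingGroup.ofSubtype Oᶜ)).index) :=
        Nat.dvd_gcd h4 (Dvd.intro _ rfl)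
      have h10 := Nat.le_of_dvd (Nat.gcd_pos_of_pos_left _ (Nat.factorial_pos _)) h9
      rw [frc_eq, frc_eq, cho_eq O.card_le_univ, fac_eq, h5, dv_iff.2 (Dvd.intro _ rfl), Nat.mul_div_cancel_left _ h7,
        not_allR (i := j) h8 (by omega) ?_]
      · rfl
      rw [dv_iff.2 h9, frc_eq, frc_eq, Nat.mul_div_cancel_left _ h8, h6]
      rfl
    have h3 : fac (Fintype.card α) / 2 / U.index = Nat.card U := by
      rw [h0, ← U.index_mul_card, Nat.mul_div_cancel_left _ hi]
    refine Or.inl ?_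
    rw [trn, frc_eq, h3, dv_iff.2 h1, Bool.true_and, Bool.or_eq_true]
    rcases h2 with ⟨a, b, h4, h5, h6, h7⟩ | h2
    · refine Or.inl (not_allR h4 (by omega) ?_)
      rw [fac_eq, fac_eq, dv_iff.2 ⟨b, h6⟩,
        show Fintype.card α / a = b by rw [h6, Nat.mul_div_cancel_left _ (by omega)], dv_iff.2 h7]
      rfl
    · refine Or.inr ((allL_iff _ _).2 fun s hs => ?_)
      have h4 : ∀ s ∈ [3, 5, 7, 11, 13, 17, 19], s.Prime ∧ s ≠ 2 := by decide
      rw [Bool.or_eq_true, dv_iff, Bool.not_eq_true', ← Bool.not_eq_true, Nat.ble_eq]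
      exact or_iff_not_imp_left.2 fun h5 => h2 s (h4 s hs).1 (h4 s hs).2 (not_not.1 h5)

/-- neither `N` nor `N / 2` is an index in `A_c`, `5 ≤ c ≤ 2 m + 3` -/
def noA (m N : ℕ) : Bool :=
  allR (fun c => !dv N (nb c) || (Nat.ble 7 c && (!poss 50 c N && !poss 50 c (N / 2)))) (2 * m - 1) 5

theorem run_A : (noA 6 265356 && noA 8 32640 && noA 12 8386560 && noA 20 549755289600) = true := by decide +kernel

theorem not_ix_alt {m N c : ℕ} (h : noA m N = true) (h5 : 5 ≤ c) (hc : c ≤ 2 * m + 3) :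
    ¬ Ix (alternatingGroup (Fin c)) N := by
  intro hI
  have := alternatingGroup.isSimpleGroup (α := Fin c) (by simpa using h5)
  have hna : ¬ IsMulCommutative (alternatingGroup (Fin c)) := fun h1 => by
    have h2 : commutator (alternatingGroup (Fin c)) = ⊤ := commutator_alternatingGroup_eq_top (by simpa using h5)
    exact bot_ne_top (((commutator_eq_bot_iff _).2 h1).symm.trans h2)
  have h1 := allR_sound h h5 (by omega)
  rw [dv_iff.2 (card_aut_alt h5 ▸ hI.dvd hna), Bool.not_true, Bool.false_or, Bool.and_eq_true, Bool.and_eq_true,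
    Nat.ble_eq] at h1
  obtain ⟨U, j, h2, rfl⟩ := hI
  have h3 := poss_sound 50 (Fin c) U
  have h4 := card_alt' (α := Fin c) (by rw [Fintype.card_fin]; omega)
  rw [Fintype.card_fin] at h3 h4
  rw [H934.OutB.card_out_of_aut hna (n := 2) (by
    rw [card_aut_alt h5, h4, nb, Bool.cond_eq_ite, if_neg (by rw [Nat.beq_eq]; omega), fac_eq])] at h2
  rcases (Nat.dvd_prime Nat.prime_two).1 h2 with rfl | rfl
  · rw [one_mul, h3] at h1
    exact absurd h1.2.1 (by decide)
  · rw [Nat.mul_div_cancel_left _ two_pos, h3] at h1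
    exact absurd h1.2.2 (by decide)

variable {n : ℕ} {K : Type} [Field K] [Fintype K] {m : ℕ} {P : Subgroup (GL (Fin n) K)}

/-- **The alternating socles which are left.** -/
theorem Dt.alt (h : Dt m P) {c : ℕ} (h5 : 5 ≤ c) (e : H915.LD.Soc P ≃* alternatingGroup (Fin c)) :
    c ≤ 2 * m + 3 ∧ Nat.card (MulAut (H915.LD.Soc P)) ∣ (2 * m + 3).factorial ∧
      ((Fintype.card K = 3 ∧ m = 6) ∨ (Fintype.card K = 2 ∧ (m = 8 ∨ m = 12 ∨ m = 20))) := by
  obtain ⟨p, hp⟩ := CharP.exists K
  obtain ⟨a, hp', ha⟩ := FiniteField.card K p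
  have := Fact.mk hp'
  have h1 := h.big
  have h2 := h.dim
  have h3 : c ≤ 2 * m + 3 := by
    by_cases h9 : 9 ≤ c
    · have h4 := S2653.result p n c P _ ⟨e⟩ h9
      split_ifs at h4 <;> omega
    · omega
  have h4 : Nat.card (MulAut (H915.LD.Soc P)) ∣ (2 * m + 3).factorial := by
    rw [Nat.card_congr (MulAut.congr e).toEquiv, card_aut_alt h5, nb, Bool.cond_eq_ite]
    split_ifs
    · exact Dvd.dvd.trans (by decide) (Nat.factorial_dvd_factorial (show 8 ≤ 2 * m + 3 by omega))
    · exact fac_eq c ▸ Nat.factorial_dvd_factorial h3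
  have hQ : 2 ≤ Fintype.card K := Fintype.one_lt_card
  have h6 := h.dvd.trans h4
  rw [ha] at h6
  have h7 := fac_cases hp' (ha ▸ hQ) (by omega) h6
  rw [← ha] at h7
  refine ⟨h3, h4, h7.imp_left fun h8 => ⟨?_, h8.1⟩⟩
  rcases h2 with h2 | ⟨-, h2⟩
  · omega
  · have := Nat.odd_iff.1 h2
    omega

end Cfsg.Agent.SM.Tx
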