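import Cfsg.Agent.SM.Tx.Dat
import Cfsg.Agent.SP.NTh.CentB
import Cfsg.Agent.MonsterU.ModFinal
import Cfsg.Agent.H20.FrobTools
import Cfsg.Agent.S2083

/-!
# SM (S3570), box CS-X: the Thompson group, the quadratic form of `Co₁` (helper85)
-/

set_option autoImplicit false

namespace Cfsg.Agent.SM.Tx

open Cfsg Cfsg.Geo Matrix Cfsg.Agent.MonsterU Cfsg.Agent.MonsterU.Lam2

theorem Ix.congr {S T : Type} [Group S] [Group T] {N : ℕ} (h : Ix S N) (e : S ≃* T) : Ix T N := by
  obtain ⟨U, j, h1, h2⟩ := h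
  exact ⟨U.map e.toMonoidHom, j, H934.OutB.card_out_congr e ▸ h1, by
    rw [Subgroup.index_map_of_bijective (f := e.toMonoidHom) e.bijective]; exact h2⟩

/-- the Thompson group has no subgroup of index `2 ^ 11 (2 ^ 12 - 1)` -/
theorem not_ix_th : ¬ Ix Spor.Th 8386560 := by
  rintro ⟨U, j, h1, h2⟩
  have := SP.NTh.finTh
  have h31 : Nat.Prime 31 := by norm_num
  have := Fact.mk h31
  rw [S2083.result, Nat.dvd_one] at h1
  rw [h1, one_mul] at h2
  have h3 := U.index_mul_card
  rw [← h2, SP.NTh.cardTh] at h3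
  have h4 : Nat.card U = 10820401200 := by omega
  obtain ⟨x, hx⟩ := exists_prime_orderOf_dvd_card' (G := U) 31 (by rw [h4]; norm_num)
  have h5 : Nat.card (Subgroup.centralizer ({x} : Set U)) = 31 := by
    apply Nat.dvd_antisymm
    · rw [← SP.NTh.c31 (x := (x : Spor.Th)) ((Subgroup.orderOf_coe x).trans hx),
        ← Subgroup.card_map_of_injective U.subtype_injective]
      refine Subgroup.card_dvd_of_le ?_
      rintro _ ⟨y, hy, rfl⟩
      exact Subgroup.mem_centralizer_singleton_iff.2 (congrArg Subtype.val (Subgroup.mem_centralizer_singleton_iff.1 hy))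
    · rw [← hx, ← Nat.card_zpowers]
      exact Subgroup.card_dvd_of_le (Subgroup.zpowers_le.2 (Subgroup.mem_centralizer_singleton_iff.2 rfl))
  obtain ⟨w, i, h6, h7, -, h8⟩ := H20.FrobTools.exists_normalizer h31 hx h5 (by rw [h4]; norm_num)
  rw [h4] at h8
  have h9 := Nat.le_of_dvd (by norm_num) h6
  unfold Nat.ModEq at h7
  interval_cases w <;> omega

/-- `Co₁` in dimension 24 over the field of two elements fixes a quadratic form -/
theorem fixQ_co1 {K : Type} [Field K] [Fintype K] (hK : Fintype.card K = 2) {P : Subgroup (GL (Fin 24) K)}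
    [Nontrivial (H915.LD.Soc P)] (ρ : H915.LD.Soc P →* GL (Fin 24) K) (hρ : Function.Injective ρ)
    (hP : ∀ x : P, ρ (QuotientGroup.mk x) = x) (e : H915.LD.Soc P ≃* Spor.Co1) : H915.LD.FixQ P := by
  let σ := ZMod.ringEquivOfPrime K Nat.prime_two hK
  have h0 : ∀ c : K, c = 0 ∨ c = 1 := fun c => by
    obtain ⟨d, rfl⟩ := σ.surjective c
    rcases (by decide : ∀ d : ZMod 2, d = 0 ∨ d = 1) d with rfl | rfl
    · exact Or.inl σ.map_zero
    · exact Or.inr σ.map_one
  let _ : Module (ZMod 2) (Fin 24 → K) := Module.compHom _ σ.toRingHom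
  let τ : Representation (ZMod 2) Spor.Co1 (Fin 24 → K) :=
    { toFun := fun g => (toLin' (ρ (e.symm g) : Matrix (Fin 24) (Fin 24) K)).toAddMonoidHom.toZModLinearMap 2
      map_one' := by
        ext v : 1
        show toLin' (ρ (e.symm 1) : Matrix (Fin 24) (Fin 24) K) v = v
        rw [map_one, map_one, Units.val_one, toLin'_one, LinearMap.id_apply]
      map_mul' := fun a b => by
        ext v : 1
        show toLin' (ρ (e.symm (a * b)) : Matrix (Fin 24) (Fin 24) K) v =
          toLin' (ρ (e.symm a) : Matrix (Fin 24) (Fin 24) K) (toLin' (ρ (e.symm b) : Matrix (Fin 24) (Fin 24) K) v)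
        rw [map_mul, map_mul, Units.val_mul, toLin'_mul, LinearMap.comp_apply] }
  have h1 : ∀ s v, τ (e s) v = (ρ s : Matrix (Fin 24) (Fin 24) K) *ᵥ v := fun s v => by
    show toLin' (ρ (e.symm (e s)) : Matrix (Fin 24) (Fin 24) K) v = _
    rw [e.symm_apply_apply, toLin'_apply]
  obtain ⟨f, hf⟩ := ModFinal.moduleThm (Fin 24 → K)
    (by rw [Nat.card_fun, Nat.card_eq_fintype_card, hK, Nat.card_fin]) τ (by
      obtain ⟨s, hs⟩ := exists_ne (1 : H915.LD.Soc P)
      by_contra h2
      push Not at h2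
      refine hs (hρ (Units.ext (toLin'.injective (LinearMap.ext fun v => ?_))))
      rw [toLin'_apply, ← h1, h2, map_one, Units.val_one, toLin'_one, LinearMap.id_apply])
  have h2 : ∀ x y, QuadraticMap.polar (fun v => σ (qf (f v))) x y = σ (bf (f x) (f y)) := fun x y => by
    simp only [QuadraticMap.polar, map_add, qf_add]
    ring
  refine ⟨fun v => σ (qf (f v)), ⟨fun c v => ?_, ⟨fun x y v => ?_, fun c x v => ?_, fun v x y => ?_, fun c v x => ?_⟩,
    fun v hv => ?_⟩, ?_⟩
  · rcases h0 c with rfl | rfl <;> simp [qf_zero]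
  · simp only [h2, map_add, bf_add_left]
  · rcases h0 c with rfl | rfl <;> simp [h2, bf_zero_left]
  · simp only [h2, map_add, bf_add_right]
  · rcases h0 c with rfl | rfl <;> simp [h2, bf_zero_right]
  · obtain ⟨y, hy⟩ := not_forall.1 fun h3 => hv (f.map_eq_zero_iff.1 (bf_nondeg (x := f v) h3))
    refine ⟨⟨f.symm y, ?_⟩, f.symm y, ?_⟩
    · rwa [h2, f.apply_symm_apply, bf_comm, σ.map_ne_zero_iff]
    · rwa [h2, f.apply_symm_apply, σ.map_ne_zero_iff]
  · rintro _ ⟨x, hx, rfl⟩ v
    have h3 := h1 (QuotientGroup.mk ⟨x, hx⟩) v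
    rw [hP] at h3
    show σ (qf (f _)) = σ (qf (f v))
    rw [← h3, hf, rep1_apply, qf_smul1]

end Cfsg.Agent.SM.Tx
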