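import Cfsg.Agent.SM.Tx.SporA
import Cfsg.Agent.SM.Tx.SporB
import Cfsg.Agent.SM.Tx.Alt
import Cfsg.Agent.S0000

/-!
# SM (S3570), box CS-X: the socles which are not of Lie type in the defining characteristic (helper85)
-/

set_option autoImplicit false

namespace Cfsg.Agent.SM.Tx

open Cfsg Cfsg.Geo Cfsg.Agent.SM.CS

section

variable {n : ℕ} {K : Type} [Field K] [Fintype K] {k : Kind} {q m : ℕ} {B : (Fin n → K) → (Fin n → K) → K}
  {Sg : (Fin n → K) → Prop} {G X Y P : Subgroup (GL (Fin n) K)}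

theorem idx_two (h : Hy k q m B Sg G X Y P) (hK : Fintype.card K = 2) :
    ((k = .p1 ∨ k = .s) ∧ q = 2 ∧ X.relIndex Y * 2 = 2 ^ m * (2 ^ m - 1)) ∨
      X.relIndex Y * 6 = 2 ^ (2 * m - 2) * (2 ^ m - 1) * (2 ^ (m - 1) - 1) := by
  have h1 := h.idx
  have h2 := (dt_hy h).six
  rcases sph_cases h.sph with ⟨rfl, h3, -⟩ | ⟨rfl, h3, -⟩ | ⟨rfl, h3, -⟩ | ⟨rfl, h3, h4, -⟩ | ⟨rfl, h3, -⟩ <;>
    rw [hK] at h3
  · have h4 : q ≤ 2 := (Nat.le_self_pow two_ne_zero q).trans h3.ge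
    interval_cases q <;> omega
  · subst h3
    refine Or.inl ⟨Or.inl rfl, rfl, ?_⟩
    obtain ⟨a, rfl⟩ : ∃ a, m = a + 1 := ⟨m - 1, by omega⟩
    have h4 : X.relIndex Y * 1 = 2 ^ a * (2 ^ (a + 1) - 1) := h1
    rw [← mul_one (X.relIndex Y), h4, pow_succ 2 a, mul_right_comm]
  · subst h3
    exact Or.inr h1
  · subst h3
    exact absurd h4 (by decide)
  · subst h3
    exact Or.inl ⟨Or.inr rfl, rfl, h1⟩

theorem idx_three (h : Hy k q 6 B Sg G X Y P) (hK : Fintype.card K = 3) : X.relIndex Y = 265356 := by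
  have h1 := h.idx
  have h2 := (dt_hy h).big
  rcases sph_cases h.sph with ⟨-, -, h3⟩ | ⟨-, -, h3⟩ | ⟨-, -, h3, -⟩ | ⟨rfl, h3, -⟩ | ⟨-, -, -, h3⟩
  · omega
  · omega
  · omega
  · rw [hK] at h3
    subst h3
    have h4 : X.relIndex Y * 2 = 530712 := h1
    omega
  · omega

theorem not_alt (h : Hy k q m B Sg G X Y P) : ¬ IsAlternating (H915.LD.Soc P) := by
  rintro ⟨c, h5, ⟨e⟩⟩
  obtain ⟨h1, h2, h3⟩ := (dt_hy h).alt h5 e
  have h4 := (ix_hy h).congr e
  have h6 := (dvd_hy h).trans h2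
  have h7 := run_A
  simp only [Bool.and_eq_true] at h7
  rcases h3 with ⟨hK, rfl⟩ | ⟨hK, h3⟩
  · exact not_ix_alt h7.1.1.1 h5 h1 (idx_three h hK ▸ h4)
  rcases idx_two h hK with ⟨-, -, h8⟩ | h8
  · rcases h3 with rfl | rfl | rfl
    · exact not_ix_alt h7.1.1.2 h5 h1 ((show X.relIndex Y = 32640 by omega) ▸ h4)
    · exact not_ix_alt h7.1.2 h5 h1 ((show X.relIndex Y = 8386560 by omega) ▸ h4)
    · exact not_ix_alt h7.2 h5 h1 ((show X.relIndex Y = 549755289600 by omega) ▸ h4)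
  · have h9 := Nat.mul_dvd_mul_right h6 6
    rw [h8] at h9
    rcases h3 with rfl | rfl | rfl <;> exact absurd h9 (by decide +kernel)

theorem row_spor (h : Hy k q m B Sg G X Y P) (hS : IsSporadicGroup (H915.LD.Soc P) ∨ Lie.IsoTits (H915.LD.Soc P)) :
    RowCo k q m (H915.LD.Soc P) := by
  have := h.core.simple
  obtain ⟨hK, rfl, h1⟩ := (dt_hy h).spor hS
  have h2 := dvd_hy h
  rw [← H934.OutB.card_out_mul _ h.core.nonabelian] at h2
  have h3 := Nat.mul_dvd_mul_right (h2.trans (Nat.mul_dvd_mul_right (out_dvd hS) _)) 6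
  rcases idx_two h hK with ⟨h4, hq, h5⟩ | h4
  · rcases h1 with ⟨⟨e⟩⟩ | h1
    · exact absurd ((show X.relIndex Y = 8386560 by omega) ▸ (ix_hy h).congr e) not_ix_th
    refine ⟨h4.resolve_right fun h6 => h.nq h6 ?_, rfl, hq, h1⟩
    obtain rfl : n = 24 := ((dt_hy h).even hK.symm.dvd).1
    obtain ⟨ρ, h7, h8⟩ := exists_rep h.core.perfect (by rw [hK]; rfl)
    exact fixQ_co1 hK ρ h7 h8 h1.some
  · rw [h4] at h3
    rcases h1 with h1 | h1
    · rw [OrdDiv.table_spor _ (.th, 90745943887872000) (by decide) h1] at h3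
      exact absurd h3 (by decide +kernel)
    · rw [OrdDiv.table_spor _ (.co1, 4157776806543360000) (by decide) h1] at h3
      exact absurd h3 (by decide +kernel)

end

/-- **[CS-X]** -/
theorem boxX : BoxX := by
  intro n K _ _ k q m B Sg G X Y P h p hp hc hL
  have := h.core.simple
  rcases H912.Known.known_split (S0000.result (G := H915.LD.Soc P)) (fun h1 => h.core.nonabelian (by
    have := Fact.mk (show (Nat.card (H915.LD.Soc P)).Prime from h1)
    have : IsCyclic (H915.LD.Soc P) := isCyclic_of_prime_card rfl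
    infer_instance)) with h1 | ⟨r, hr, h1⟩ | h1 | h1
  · exact absurd h1 (not_alt h)
  · refine absurd h1 ((dt_hy h).not_lie hr fun h2 => hL ?_)
    rwa [(Nat.prime_dvd_prime_iff_eq hp hr).1 ((CharP.cast_eq_zero_iff K p r).1 h2)]
  · exact row_spor h (Or.inr h1)
  · exact row_spor h (Or.inl h1)

end Cfsg.Agent.SM.Tx
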