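import Cfsg.Agent.SM.CS.Defs
import Cfsg.Agent.SM.Ti.Box
import Cfsg.Agent.H934.OutB

/-!
# SM (S3570), box CS-X: the data of a class `S` factor (helper85)

* `idx_split`, `idx_rel` : the index of a subgroup along a normal subgroup;
* `Ix S N` : `N` is the index of a subgroup of `S` times a divisor of `|Out S|`;
* `Dt m P` : `P` is a core of dimension `2 m` or `2 m + 1` and `|K| ^ (m - 1) th |K| m` divides `|Aut (H915.LD.Soc P)|`;
* `ix_hy`, `dt_hy` : the data of `Hy`.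
-/

set_option autoImplicit false
set_option linter.unusedSectionVars false

namespace Cfsg.Agent.SM.Tx

open Cfsg Cfsg.Geo Matrix Projectivization
open Cfsg.Agent.H915.LD Cfsg.Agent.H100.Ppd Cfsg.Agent.SM.CS Cfsg.Agent.SM.Ti
open scoped LinearAlgebra.Projectivization

theorem idx_split {G : Type*} [Group G] [Finite G] (A U : Subgroup G) [A.Normal] :
    ∃ j, j ∣ A.index ∧ U.index = j * U.relIndex A := by
  refine ⟨(U ⊔ A).index, Subgroup.index_dvd_of_le le_sup_right, ?_⟩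
  have h1 : A.relIndex U * U.index = (A ⊓ U).index := by
    rw [← Subgroup.inf_relIndex_right, Subgroup.relIndex_mul_index inf_le_right]
  have h2 : U.relIndex A * A.index = (A ⊓ U).index := by
    rw [← Subgroup.inf_relIndex_left, Subgroup.relIndex_mul_index inf_le_left]
  have h3 : A.relIndex U * (U ⊔ A).index = A.index := by
    rw [← Subgroup.relIndex_sup_right U A, Subgroup.relIndex_mul_index le_sup_right]
  have h4 : 0 < A.relIndex U := Nat.pos_of_ne_zero Subgroup.index_ne_zero_of_finite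
  refine Nat.eq_of_mul_eq_mul_left h4 ?_
  rw [h1, ← h2, ← h3]
  ring

theorem idx_rel {G : Type*} [Group G] [Finite G] {A R : Subgroup G} (U : Subgroup G) (hA : A ≤ R)
    (hn : (A.subgroupOf R).Normal) : ∃ j, j ∣ A.relIndex R ∧ U.relIndex R = j * U.relIndex A := by
  obtain ⟨j, h1, h2⟩ := idx_split (A.subgroupOf R) (U.subgroupOf R)
  exact ⟨j, h1, by rw [← Subgroup.relIndex_subgroupOf hA]; exact h2⟩

/-- `N` is the index of a subgroup times a divisor of `|Out S|` -/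
def Ix (S : Type*) [Group S] (N : ℕ) : Prop := ∃ (U : Subgroup S) (j : ℕ), j ∣ Nat.card (Out S) ∧ N = j * U.index

theorem Ix.dvd {S : Type} [Group S] [Finite S] [IsSimpleGroup S] (hc : ¬ IsMulCommutative S) {N : ℕ} (h : Ix S N) :
    N ∣ Nat.card (MulAut S) := by
  obtain ⟨U, j, h1, rfl⟩ := h
  rw [← H934.OutB.card_out_mul S hc]
  exact Nat.mul_dvd_mul h1 U.index_dvd_card

variable {n : ℕ} {K : Type} [Field K] [Fintype K]

theorem ix_of {Y P : Subgroup (GL (Fin n) K)} (hC : IsResidualCore Y P) {X : Subgroup (GL (Fin n) K)}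
    (hX : Y ⊓ scalars (Fin n) K ≤ X) : Ix (H915.LD.Soc P) (X.relIndex Y) := by
  have hc := core_of_residual hC
  have hYN : Y ≤ Subgroup.normalizer (P : Set (GL (Fin n) K)) := fun y hy => mem_normalizer (hC.normal y hy)
  let f : Y →* MulAut (H915.LD.Soc P) := (conjSoc hc.absIrred).comp (Subgroup.inclusion hYN)
  have h1 : f.ker ≤ X.subgroupOf Y := fun y hy =>
    hX ⟨y.2, scalar_of_conjSoc hc (g := Subgroup.inclusion hYN y) hy⟩
  have h2 : Inn (H915.LD.Soc P) ≤ f.range := by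
    rintro _ ⟨x, rfl⟩
    induction x using QuotientGroup.induction_on with
    | H x =>
      refine ⟨⟨x, hC.le x.2⟩, ?_⟩
      ext z
      induction z using QuotientGroup.induction_on with
      | H z => rfl
  obtain ⟨j, h3, h4⟩ := idx_rel ((X.subgroupOf Y).map f) h2 inferInstance
  refine ⟨((X.subgroupOf Y).map f).comap MulAut.conj, j, h3.trans (Subgroup.relIndex_dvd_index_of_le h2), ?_⟩
  rw [Subgroup.index_comap]
  refine Eq.trans ?_ h4
  rw [← Subgroup.index_comap, Subgroup.comap_map_eq_self h1]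
  rfl

/-- the numbers of a sphere -/
theorem sph_cases {k : Kind} {q m : ℕ} {B : (Fin n → K) → (Fin n → K) → K} {Sg : (Fin n → K) → Prop}
    {G X : Subgroup (GL (Fin n) K)} (h : Sph q m k B Sg G X) :
    (k = .u ∧ Fintype.card K = q ^ 2 ∧ n = 2 * m) ∨ (k = .p1 ∧ Fintype.card K = q ∧ n = 2 * m) ∨
    (k = .p2 ∧ Fintype.card K = q ∧ n = 2 * m ∧ (0 < m → ∃ v, v ≠ 0 ∧ Sg v)) ∨
    (k = .o ∧ Fintype.card K = q ∧ Odd q ∧ n = 2 * m + 1) ∨ (k = .s ∧ Fintype.card K = q ∧ Even q ∧ n = 2 * m) := by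
  cases h with
  | u f hf hK hd => exact Or.inl ⟨rfl, hK, by simpa using hd⟩
  | p1 Q hQ hp hK hd => exact Or.inr (Or.inl ⟨rfl, hK, by simpa using hd⟩)
  | p2 Q hQ hp hK hd =>
    refine Or.inr (Or.inr (Or.inl ⟨rfl, hK, by simpa using hd, fun hm => ?_⟩))
    obtain ⟨U, -, h1, h2⟩ := hp
    rw [finrank_top, Module.finrank_fintype_fun_eq_card, hd] at h2
    obtain ⟨v, hv, h0⟩ := (Submodule.ne_bot_iff U).1 fun e => by
      rw [e, finrank_bot] at h2
      omega
    exact ⟨v, h0, h1 v hv⟩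
  | o Q hQ hK hq hd => exact Or.inr (Or.inr (Or.inr (Or.inl ⟨rfl, hK, hq, by simpa using hd⟩)))
  | s Q hQ hp hK hq hd => exact Or.inr (Or.inr (Or.inr (Or.inr ⟨rfl, hK, hq, by simpa using hd⟩)))

/-- the data of a core -/
structure Dt (m : ℕ) (P : Subgroup (GL (Fin n) K)) : Prop where
  core : Core P
  big : 13 ≤ n
  dim : n = 2 * m ∨ (n = 2 * m + 1 ∧ Odd (Fintype.card K))
  dvd : Fintype.card K ^ (m - 1) * th (Fintype.card K) m ∣ Nat.card (MulAut (H915.LD.Soc P))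

variable {k : Kind} {q m : ℕ} {B : (Fin n → K) → (Fin n → K) → K} {Sg : (Fin n → K) → Prop}
  {G X Y P : Subgroup (GL (Fin n) K)}

theorem ix_hy (h : Hy k q m B Sg G X Y P) : Ix (H915.LD.Soc P) (X.relIndex Y) :=
  ix_of h.core ((inf_le_inf_right _ h.le).trans h.sc)

theorem dvd_hy (h : Hy k q m B Sg G X Y P) : X.relIndex Y ∣ Nat.card (MulAut (H915.LD.Soc P)) :=
  have := h.core.simple
  (ix_hy h).dvd h.core.nonabelian

theorem th_dvd_aut (h : Hy k q m B Sg G X Y P) (hm : 0 < m) {v : Fin n → K} (hv0 : v ≠ 0) (hv : Sg v) :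
    th (Fintype.card K) m ∣ Nat.card (MulAut (H915.LD.Soc P)) := by
  have := h.core.simple
  let x : ℙ K (Fin n → K) := Projectivization.mk K v hv0
  have hx : Sg x.rep := by
    obtain ⟨c, -, e⟩ := exists_rep_mk hv0
    rw [e]
    exact h.pol.sg_smul c _ hv
  have h1 : th (Nat.card K) m ∣ (MulAction.orbit Y x).ncard := by
    refine h.tight.dvd hm ?_ ?_
    · rintro _ ⟨y, rfl⟩
      obtain ⟨c, -, e⟩ := exists_rep_smul (y : GL (Fin n) K) x
      show Sg ((y : GL (Fin n) K) • x).rep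
      rw [e]
      exact h.pol.sg_smul c _ (h.pol.sg _ (h.le y.2) _ hx)
    · rintro y hy _ ⟨z, rfl⟩
      exact ⟨⟨y, hy⟩ * z, mul_smul _ _ _⟩
  rw [← MulAction.index_stabilizer, Nat.card_eq_fintype_card] at h1
  refine h1.trans (Ix.dvd h.core.nonabelian (ix_of h.core (X := MulAction.stabilizer (GL (Fin n) K) x) ?_))
  rintro y ⟨-, hy⟩
  obtain ⟨c, hc⟩ := (mem_scalars_iff _).1 hy
  refine smul_eq_of (g := y) (c := ((c⁻¹ : Kˣ) : K)) ?_
  rw [ap, hc, smul_mulVec, one_mulVec, smul_smul, Units.mul_inv, one_smul]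

theorem dt_hy (h : Hy k q m B Sg G X Y P) : Dt m P := by
  have h1 := h.big
  rw [Fintype.card_fin] at h1
  have h2 := dvd_hy h
  have h3 := h.idx
  have hQ : 2 ≤ Fintype.card K := Fintype.one_lt_card
  have h4 := th_mul' (Q := Fintype.card K) (by omega) m
  generalize X.relIndex Y = N at h2 h3
  rcases sph_cases h.sph with ⟨rfl, hK, hd⟩ | ⟨rfl, hK, hd⟩ | ⟨rfl, hK, hd, hv⟩ | ⟨rfl, hK, hq, hd⟩ | ⟨rfl, hK, hq, hd⟩
  · refine ⟨core_of_residual h.core, h1, Or.inl hd, Dvd.dvd.trans ?_ h2⟩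
    obtain ⟨a, rfl⟩ : ∃ a, m = a + 1 := ⟨m - 1, by omega⟩
    simp only [Kind.den, Kind.num] at h3
    rw [hK] at h4 ⊢
    rw [pow_mul q 2 (a + 1), ← h4, Nat.sq_sub_sq q 1, show 2 * (a + 1) - 1 = 2 * a + 1 by omega] at h3
    refine ⟨q * (q - 1), Nat.eq_of_mul_eq_mul_right (show 0 < q + 1 by omega) ?_⟩
    rw [h3, Nat.add_sub_cancel]
    ring
  · refine ⟨core_of_residual h.core, h1, Or.inl hd, Dvd.dvd.trans ?_ h2⟩
    simp only [Kind.den, Kind.num] at h3
    rw [hK] at h4 ⊢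
    obtain ⟨c, hc⟩ := Nat.gcd_dvd_right 2 (q - 1)
    refine ⟨c, Nat.eq_of_mul_eq_mul_right (Nat.gcd_pos_of_pos_left (q - 1) two_pos) ?_⟩
    rw [h3, ← h4]
    conv_lhs => rw [hc]
    ring
  · refine ⟨core_of_residual h.core, h1, Or.inl hd, ?_⟩
    obtain ⟨v, hv0, hv1⟩ := hv (by omega)
    obtain ⟨a, rfl⟩ : ∃ a, m = a + 1 := ⟨m - 1, by omega⟩
    refine ((th_coprime _ a).symm.pow_left _).mul_dvd_of_dvd_of_dvd (Dvd.dvd.trans ?_ h2)
      (th_dvd_aut h (by omega) hv0 hv1)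
    simp only [Kind.den, Kind.num] at h3
    rw [hK, Nat.add_sub_cancel]
    have h5 : q ^ (a + 1) ∣ N * 2 := by
      refine (((Nat.coprime_self_add_right (m := q) (n := 1)).2 (Nat.coprime_one_right q)).pow_left
        (a + 1)).dvd_of_dvd_mul_right ?_
      rw [mul_assoc, h3, mul_assoc]
      exact Dvd.dvd.mul_right (pow_dvd_pow q (by omega)) _
    rcases Nat.even_or_odd q with he | ho
    · refine Nat.dvd_of_mul_dvd_mul_right two_pos (Dvd.dvd.trans ?_ h5)
      rw [pow_succ]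
      exact Nat.mul_dvd_mul_left _ he.two_dvd
    · exact ((Nat.coprime_two_right.2 ho).pow_left a).dvd_of_dvd_mul_right ((pow_dvd_pow q (by omega)).trans h5)
  · refine ⟨core_of_residual h.core, h1, Or.inr ⟨hd, hK ▸ hq⟩, Dvd.dvd.trans ?_ h2⟩
    obtain ⟨a, rfl⟩ : ∃ a, m = a + 1 := ⟨m - 1, by omega⟩
    simp only [Kind.den, Kind.num] at h3
    rw [hK] at h4 ⊢
    obtain ⟨c, hc⟩ := hq
    refine ⟨q * c, Nat.eq_of_mul_eq_mul_right two_pos ?_⟩
    rw [h3, ← h4, Nat.add_sub_cancel, show q - 1 = 2 * c by omega]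
    ring
  · refine ⟨core_of_residual h.core, h1, Or.inl hd, Dvd.dvd.trans ?_ h2⟩
    obtain ⟨a, rfl⟩ : ∃ a, m = a + 1 := ⟨m - 1, by omega⟩
    simp only [Kind.den, Kind.num] at h3
    rw [hK] at h4 ⊢
    obtain ⟨c, hc⟩ := hq
    refine ⟨c * (q - 1), Nat.eq_of_mul_eq_mul_right two_pos ?_⟩
    rw [h3, ← h4, Nat.add_sub_cancel, pow_succ]
    conv_lhs => enter [1, 2]; rw [hc]
    ring

end Cfsg.Agent.SM.Tx
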