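import Cfsg.Agent.SM.Tx.Dat
import Cfsg.Agent.SM.Tx.Num
import Cfsg.Agent.TH.Sim.LieChk
import Cfsg.Agent.H364.LieNam
import Cfsg.Agent.OrdDiv.Table

/-!
# SM (S3570), box CS-X: socles of Lie type in another characteristic (helper85)
-/

set_option autoImplicit false

namespace Cfsg.Agent.SM.Tx

open Cfsg Cfsg.Agent.OrdDiv Cfsg.Agent.H902 Cfsg.Agent.H902.Names Cfsg.Agent.H889.Enum
open Cfsg.Agent.SM.Ti Cfsg.Agent.TH.Sv Cfsg.Agent.TH.Sim Cfsg.Agent.TH.Sim.Al Cfsg.Agent.TH.Sim.LieN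

/-- the lower bound for the dimension -/
def lb (X : Art.Sh) (q : ℕ) : ℕ := if Ex X q then 0 else lp X q

/-- the group of shape `X` over the field of `r ^ g` elements -/
def chkN (X : Art.Sh) (r g : ℕ) : Bool :=
  frc (r ^ g) fun q => !(okb X r q || decide (Ex X q)) || frc (ou X r g * ordS X q) fun A => frc (lb X q) fun L =>
    allQm A (max 6 (L / 2)) fun Q m => dv r Q || (dv 2 Q && (Nat.beq m 6 || Nat.blt (2 * m) L))

/-- all fields -/
def chkX (X : Art.Sh) : Bool :=
  frc (kk X) fun k => allR (fun g => allU (fun r => Nat.ble 4096 (Nat.pow r (g * k))) (fun r => comp r || chkN X r g) 5000 2) 12 1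

theorem run_L : allR (fun n => chkX (.L n)) 14 0 = true := by decide +kernel

theorem run_C : allR (fun n => chkX (.C n)) 14 0 = true := by decide +kernel

theorem run_U : allR (fun n => chkX (.U n)) 14 0 = true := by decide +kernel

theorem run_D : allR (fun n => chkX (.D n)) 14 0 = true := by decide +kernel

theorem run_DD : allR (fun n => chkX (.DD n)) 14 0 = true := by decide +kernel

theorem run_E : allL [0, 1, 2, 3, 4, 5, 6, 7, 8, 9] (fun i =>
    chkX ([Art.Sh.G2, .F4, .E6, .E7, .E8, .TE6, .TD4, .Sz, .Ree, .TF4].getD i .G2)) = true := by decide +kernel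

theorem run {X : Art.Sh} (h : rk X ≤ 13) : chkX X = true := by
  have h1 := (allL_iff _ _).1 run_E
  cases X
  · exact allR_sound run_L (Nat.zero_le _) (by simp only [rk] at h; omega)
  · exact allR_sound run_C (Nat.zero_le _) (by simp only [rk] at h; omega)
  · exact allR_sound run_U (Nat.zero_le _) (by simp only [rk] at h; omega)
  · exact allR_sound run_D (Nat.zero_le _) (by simp only [rk] at h; omega)
  · exact allR_sound run_DD (Nat.zero_le _) (by simp only [rk] at h; omega)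
  exacts [h1 0 (by decide), h1 1 (by decide), h1 2 (by decide), h1 3 (by decide), h1 4 (by decide), h1 5 (by decide),
    h1 6 (by decide), h1 7 (by decide), h1 8 (by decide), h1 9 (by decide)]

theorem chkX_sound {X : Art.Sh} {r g M : ℕ} (h : Art.Real X r g M) (h0 : (r ^ g) ^ kk X < 4096) (hM : 0 < ou X r g * M)
    {Q m : ℕ} (hQ : 2 ≤ Q) (hm : 6 ≤ m) (hl : lb X (r ^ g) ≤ 2 * m + 1) (hd : Q ^ (m - 1) * th Q m ∣ ou X r g * M) :
    r ∣ Q ∨ (2 ∣ Q ∧ (m = 6 ∨ 2 * m < lb X (r ^ g))) := by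
  have hX := run (rk_le (Nat.one_lt_pow (by have := h.hf; omega) h.hp.one_lt) h0)
  rw [← pow_mul] at h0
  have h1 : g < 12 := by
    have h1 : 2 ^ (g * kk X) < 2 ^ 12 := (Nat.pow_le_pow_left h.hp.two_le _).trans_lt h0
    have h2 := (Nat.pow_lt_pow_iff_right (by omega)).1 h1
    exact (Nat.le_mul_of_pos_right g (kk_pos X)).trans_lt h2
  rw [chkX, frc_eq] at hX
  have h2 := allU_sound (allR_sound hX h.hf (by omega)) h.hp.two_le fun j hj => by
    rw [← Bool.not_eq_true, Nat.ble_eq, not_le]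
    exact (Nat.pow_le_pow_left hj _).trans_lt h0
  have h3 : (okb X r (r ^ g) || decide (Ex X (r ^ g))) = true := by
    by_cases hx : Ex X (r ^ g)
    · rw [decide_eq_true hx, Bool.or_true]
    · rw [(okb_of h hx).1, Bool.true_or]
  simp only [comp_prime h.hp, chkN, frc_eq, h3, Bool.not_true, Bool.false_or, ordS_eq h] at h2
  have h4 := allQm_sound h2 hM hQ (by omega) (by omega) hd
  simpa only [Bool.or_eq_true, Bool.and_eq_true, dv_iff, Nat.beq_eq, Nat.blt_eq] using h4

variable {n : ℕ} {K : Type} [Field K] [Fintype K] {m : ℕ} {P : Subgroup (GL (Fin n) K)}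

theorem Dt.six (h : Dt m P) : 6 ≤ m := by
  have := h.big
  have := h.dim
  omega

theorem Dt.hi (h : Dt m P) : n ≤ 2 * m + 1 := by
  have := h.dim
  omega

theorem Dt.even (h : Dt m P) (h2 : 2 ∣ Fintype.card K) : n = 2 * m ∧ 7 ≤ m := by
  have h1 := h.big
  rcases h.dim with h3 | ⟨-, h3⟩
  · omega
  · exact absurd (even_iff_two_dvd.2 h2) (Nat.not_even_iff_odd.2 h3)

theorem Dt.hna (h : Dt m P) : ¬ ∀ a b : H915.LD.Soc P, a * b = b * a := fun hc => h.core.nonabelian ⟨⟨hc⟩⟩

/-- **No socle of Lie type in another characteristic.** -/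
theorem Dt.not_lie (h : Dt m P) {r : ℕ} (hr : r.Prime) (hK : (r : K) ≠ 0) : ¬ IsLieTypeChar r (H915.LD.Soc P) := by
  intro hL
  have := h.core.simple
  obtain ⟨g, X, e, hg, hT, hR⟩ := H364.LieNam.lie_nam OrdDiv.table hr hL
  have hA := card_aut h.hna hg hT hR
  have hQ : 2 ≤ Fintype.card K := Fintype.one_lt_card
  have h1 : lb X (r ^ e) ≤ n := by
    rw [lb]
    split_ifs with hx
    · exact Nat.zero_le _
    · exact H912.Bd.le_of_ls (ls_lp hg hT hR hx) hK P h.core.perfect (MulEquiv.refl _)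
  have h2 := h.dvd
  have h3 := h.six
  have h4 := h.hi
  have h5 := h.big
  have h6 : 0 < ou X r e * Nat.card (H915.LD.Soc P) := hA ▸ Nat.card_pos
  rw [hA] at h2
  have h7 : (r ^ e) ^ kk X < 4096 := by
    by_cases hx : Ex X (r ^ e)
    · rcases hx with ⟨rfl, hq | hq | hq⟩ | ⟨hq, rfl | rfl | rfl⟩ <;> rw [hq] <;> decide
    rw [lb, if_neg hx] at h1
    refine lt_4096 (Z := n - 2) hR (by omega) ?_
    have h8 := (Nat.pow_le_pow_left hQ _).trans (pow_le_of h6 (by omega) h2)
    calc 2 ^ (n - 2) ≤ 2 ^ ((2 * m - 2) * 2) := Nat.pow_le_pow_right two_pos (by omega)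
      _ ≤ (ou X r e * Nat.card (H915.LD.Soc P)) ^ 2 := by rw [pow_mul]; exact Nat.pow_le_pow_left h8 2
      _ ≤ _ := Nat.pow_le_pow_left ((Nat.le_mul_of_pos_left _ (by omega)).trans (Nat.le_mul_of_pos_right _ (by omega))) 2
  rcases chkX_sound hR h7 h6 hQ h3 (h1.trans h4) h2 with h8 | ⟨h8, h9⟩
  · refine hK ?_
    obtain ⟨p, hp⟩ := CharP.exists K
    obtain ⟨a, hp', ha⟩ := FiniteField.card K p
    rw [ha] at h8
    rw [(Nat.prime_dvd_prime_iff_eq hr hp').1 (hr.dvd_of_dvd_pow h8)]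
    exact CharP.cast_eq_zero K p
  · have := h.even h8
    omega

end Cfsg.Agent.SM.Tx
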